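import Mathlib
import Cfsg.Agent.Lib.CIT.AppModel
import Cfsg.Agent.S0506
import Cfsg.Agent.S0494

/-! Simple groups with abelian Sylow 2-subgroups and three prime divisors. -/

set_option autoImplicit false
set_option linter.unusedSectionVars false
set_option linter.style.haveILetI false

namespace CfsgLib.Cls2

open Cfsg Subgroup Matrix

theorem no_four {n a b c d : ℕ} (hn : n ≠ 0) (h : n.primeFactors.card ≤ 3) (ha : a ∣ n)
    (hb : b ∣ n) (hc : c ∣ n) (hd : d ∣ n) (a1 : a ≠ 1) (b1 : b ≠ 1) (c1 : c ≠ 1) (d1 : d ≠ 1)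
    (ab : a.Coprime b) (ac : a.Coprime c) (ad : a.Coprime d) (bc : b.Coprime c)
    (bd : b.Coprime d) (cd : c.Coprime d) : False := by
  obtain ⟨p, hp, pa⟩ := Nat.exists_prime_and_dvd a1
  obtain ⟨q, hq, qb⟩ := Nat.exists_prime_and_dvd b1
  obtain ⟨r, hr, rc⟩ := Nat.exists_prime_and_dvd c1
  obtain ⟨s, hs, sd⟩ := Nat.exists_prime_and_dvd d1
  have ne : ∀ {x y u v : ℕ}, u.Prime → x.Coprime y → u ∣ x → v ∣ y → u ≠ v := by
    intro x y u v hu hxy h1 h2 e
    subst e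
    exact hu.one_lt.ne' (Nat.eq_one_of_dvd_coprimes hxy h1 h2)
  have hsub : ({p, q, r, s} : Finset ℕ) ⊆ n.primeFactors := by
    intro x hx
    simp only [Finset.mem_insert, Finset.mem_singleton] at hx
    rcases hx with rfl | rfl | rfl | rfl
    · exact Nat.mem_primeFactors.2 ⟨hp, pa.trans ha, hn⟩
    · exact Nat.mem_primeFactors.2 ⟨hq, qb.trans hb, hn⟩
    · exact Nat.mem_primeFactors.2 ⟨hr, rc.trans hc, hn⟩
    · exact Nat.mem_primeFactors.2 ⟨hs, sd.trans hd, hn⟩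
  have := Finset.card_le_card hsub
  rw [Finset.card_eq_four.2 ⟨p, q, r, s, ne hp ab pa qb, ne hp ac pa rc, ne hp ad pa sd,
    ne hq bc qb rc, ne hq bd qb sd, ne hr cd rc sd, rfl⟩] at this
  omega

theorem cop_of_lin {x y : ℕ} (u : ℕ) (h : x = u * y + 1 ∨ x + 1 = u * y) : x.Coprime y := by
  rcases h with h | h
  · rw [h]; simp
  · have : (x + 1).Coprime x := by simp
    rw [h] at this
    exact (Nat.Coprime.coprime_mul_left this).symm

theorem cop_two {x : ℕ} (h : x % 2 = 1) : Nat.Coprime 2 x :=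
  (Nat.Prime.coprime_iff_not_dvd Nat.prime_two).2 (by omega)

theorem cop_three {x : ℕ} (h : x % 3 ≠ 0) : Nat.Coprime 3 x :=
  (Nat.Prime.coprime_iff_not_dvd Nat.prime_three).2 (by omega)

theorem cop_sub_add {x : ℕ} (h : x % 2 = 0) (h0 : x ≠ 0) : (x - 1).Coprime (x + 1) := by
  obtain ⟨k, rfl⟩ : ∃ k, x = 2 * k + 2 := ⟨x / 2 - 1, by omega⟩
  have : 2 * k + 2 + 1 = 2 + (2 * k + 2 - 1) := by omega
  rw [this, Nat.coprime_add_self_right]
  exact (cop_two (by omega)).symm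

theorem even_case {a : ℕ} (ha : 2 ≤ a)
    (h : (2 ^ a * ((2 ^ a - 1) * (2 ^ a + 1))).primeFactors.card ≤ 3) : a = 2 ∨ a = 3 := by
  by_contra hne
  push Not at hne
  have h4 : 4 ≤ a := by omega
  have h16 : 16 ≤ 2 ^ a := by
    calc 16 = 2 ^ 4 := by norm_num
      _ ≤ 2 ^ a := Nat.pow_le_pow_right (by norm_num) h4
  have hn : 2 ^ a * ((2 ^ a - 1) * (2 ^ a + 1)) ≠ 0 :=
    Nat.mul_ne_zero (by omega) (Nat.mul_ne_zero (by omega) (by omega))
  have e2 : 2 ^ a % 2 = 0 := by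
    obtain ⟨b, rfl⟩ : ∃ b, a = b + 1 := ⟨a - 1, by omega⟩
    rw [pow_succ]; omega
  have d2 : 2 ∣ 2 ^ a * ((2 ^ a - 1) * (2 ^ a + 1)) :=
    (Nat.dvd_of_mod_eq_zero e2).mul_right _
  have du : 2 ^ a - 1 ∣ 2 ^ a * ((2 ^ a - 1) * (2 ^ a + 1)) := (dvd_mul_right _ _).mul_left _
  have dv : 2 ^ a + 1 ∣ 2 ^ a * ((2 ^ a - 1) * (2 ^ a + 1)) := (dvd_mul_left _ _).mul_left _
  have uv := cop_sub_add e2 (by omega)
  rcases Nat.even_or_odd a with ⟨b, rfl⟩ | ⟨b, rfl⟩
  · have hb : 2 ≤ b := by omega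
    have h4' : 4 ≤ 2 ^ b := by
      calc 4 = 2 ^ 2 := by norm_num
        _ ≤ 2 ^ b := Nat.pow_le_pow_right (by norm_num) hb
    have e3 : 2 ^ b % 2 = 0 := by
      obtain ⟨c, rfl⟩ : ∃ c, b = c + 1 := ⟨b - 1, by omega⟩
      rw [pow_succ]; omega
    have hf : 2 ^ (b + b) - 1 = (2 ^ b - 1) * (2 ^ b + 1) := by
      rw [pow_add]
      obtain ⟨y, hy⟩ : ∃ y, 2 ^ b = y + 1 := ⟨2 ^ b - 1, by omega⟩
      rw [hy]
      have : (y + 1) * (y + 1) = (y + 1 - 1) * (y + 1 + 1) + 1 := by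
        simp only [Nat.add_sub_cancel]; ring
      omega
    have d3 : 2 ^ b - 1 ∣ 2 ^ (b + b) - 1 := hf ▸ dvd_mul_right _ _
    have d4 : 2 ^ b + 1 ∣ 2 ^ (b + b) - 1 := hf ▸ dvd_mul_left _ _
    exact no_four hn h d2 (d3.trans du) (d4.trans du) dv (by norm_num) (by omega) (by omega)
      (by omega) (cop_two (by omega)) (cop_two (by omega)) (cop_two (by omega))
      (cop_sub_add e3 (by omega)) (uv.coprime_dvd_left d3) (uv.coprime_dvd_left d4)
  · have m3 : 2 ^ (2 * b + 1) % 3 = 2 := by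
      rw [pow_succ, pow_mul, Nat.mul_mod, Nat.pow_mod]; simp
    by_cases hv : ∀ {d : ℕ}, d.Prime → d ∣ 2 ^ (2 * b + 1) + 1 → d = 3
    · have h5 := Nat.eq_prime_pow_of_unique_prime_dvd (by omega) hv
      set j := (2 ^ (2 * b + 1) + 1).primeFactorsList.length
      have m16 : 2 ^ (2 * b + 1) % 16 = 0 := by
        obtain ⟨c, hc⟩ : ∃ c, 2 * b + 1 = c + 4 := ⟨2 * b + 1 - 4, by omega⟩
        rw [hc, pow_add]; omega
      have hj : 3 ^ j % 80 = 3 ^ (j % 4) % 80 := by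
        conv_lhs => rw [← Nat.div_add_mod j 4, pow_add, pow_mul, Nat.mul_mod, Nat.pow_mod]
        simp
      have h5' : 5 ∣ 2 ^ (2 * b + 1) := by
        have : j % 4 < 4 := Nat.mod_lt _ (by norm_num)
        interval_cases (j % 4) <;> simp at hj <;> omega
      have := (Nat.prime_five.dvd_of_dvd_pow h5')
      omega
    · push Not at hv
      obtain ⟨d, hd, hdv, hd3⟩ := hv
      have d3 : 3 ∣ 2 ^ (2 * b + 1) + 1 := by omega
      have hd2 : Nat.Coprime 2 d :=
        (cop_two (x := 2 ^ (2 * b + 1) + 1) (by omega)).coprime_dvd_right hdv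
      exact no_four hn h d2 du (d3.trans dv) (hdv.trans dv) (by norm_num) (by omega) (by omega)
        hd.one_lt.ne' (cop_two (by omega)) (by norm_num) hd2 (uv.coprime_dvd_right d3)
        (uv.coprime_dvd_right hdv) ((Nat.coprime_primes Nat.prime_three hd).2 hd3.symm)

theorem odd_case {q n : ℕ} (hq : q % 8 = 3 ∨ q % 8 = 5) (hn : 2 * n = q * ((q - 1) * (q + 1)))
    (h : n.primeFactors.card = 3) : n = 60 := by
  rcases hq with hq | hq
  · obtain ⟨k, rfl⟩ : ∃ k, q = 8 * k + 3 := ⟨q / 8, by omega⟩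
    have e : n = (8 * k + 3) * (4 * k + 1) * (2 * k + 1) * 2 * 2 := by
      have : 8 * k + 3 - 1 = 8 * k + 2 := by omega
      rw [this] at hn
      nlinarith
    rcases Nat.eq_zero_or_pos k with rfl | hk
    · subst e; exact absurd h (by decide +kernel)
    exfalso
    refine no_four (a := 2) (b := 8 * k + 3) (c := 4 * k + 1) (d := 2 * k + 1)
      (by rw [e]; positivity) h.le (by rw [e]; exact dvd_mul_left _ _) ?_ ?_ ?_ (by norm_num) (by omega)
      (by omega) (by omega) (cop_two (by omega)) (cop_two (by omega)) (cop_two (by omega))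
      (cop_of_lin 2 (by omega)) (cop_of_lin 4 (by omega)) (cop_of_lin 2 (by omega))
    · exact ⟨(4 * k + 1) * (2 * k + 1) * 2 * 2, by rw [e]; ring⟩
    · exact ⟨(8 * k + 3) * (2 * k + 1) * 2 * 2, by rw [e]; ring⟩
    · exact ⟨(8 * k + 3) * (4 * k + 1) * 2 * 2, by rw [e]; ring⟩
  · obtain ⟨k, rfl⟩ : ∃ k, q = 8 * k + 5 := ⟨q / 8, by omega⟩
    have e : n = (8 * k + 5) * (4 * k + 3) * (2 * k + 1) * 2 * 2 := by
      have : 8 * k + 5 - 1 = 8 * k + 4 := by omega
      rw [this] at hn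
      nlinarith
    rcases Nat.eq_zero_or_pos k with rfl | hk
    · exact e
    exfalso
    refine no_four (a := 2) (b := 8 * k + 5) (c := 4 * k + 3) (d := 2 * k + 1)
      (by rw [e]; positivity) h.le (by rw [e]; exact dvd_mul_left _ _) ?_ ?_ ?_ (by norm_num) (by omega)
      (by omega) (by omega) (cop_two (by omega)) (cop_two (by omega)) (cop_two (by omega))
      (cop_of_lin 2 (by omega)) (cop_of_lin 4 (by omega)) (cop_of_lin 2 (by omega))
    · exact ⟨(4 * k + 3) * (2 * k + 1) * 2 * 2, by rw [e]; ring⟩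
    · exact ⟨(8 * k + 5) * (2 * k + 1) * 2 * 2, by rw [e]; ring⟩
    · exact ⟨(8 * k + 5) * (4 * k + 3) * 2 * 2, by rw [e]; ring⟩

theorem ree_case {m : ℕ} (hm : 1 ≤ m)
    (h : ((3 ^ (2 * m + 1)) ^ 3 * ((3 ^ (2 * m + 1)) ^ 3 + 1) *
      (3 ^ (2 * m + 1) - 1)).primeFactors.card ≤ 3) : False := by
  have h12 : 3 ^ (2 * m + 1) % 12 = 3 := by
    clear h hm
    induction m with
    | zero => rfl
    | succ m ih =>
      have : 3 ^ (2 * (m + 1) + 1) = 3 ^ (2 * m + 1) * 9 := by ring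
      rw [this]; omega
  have h27 : 27 ≤ 3 ^ (2 * m + 1) := by
    calc 27 = 3 ^ 3 := by norm_num
      _ ≤ _ := Nat.pow_le_pow_right (by norm_num) (by omega)
  obtain ⟨j, hj⟩ : ∃ j, 3 ^ (2 * m + 1) = 12 * j + 3 := ⟨3 ^ (2 * m + 1) / 12, by omega⟩
  rw [hj] at h h27
  have e : (12 * j + 3) ^ 3 * ((12 * j + 3) ^ 3 + 1) * (12 * j + 3 - 1) =
      2 * 3 * (6 * j + 1) * (144 * j ^ 2 + 60 * j + 7) * ((4 * j + 1) * (12 * j + 3) ^ 2 *
        (12 * j + 4)) := by
    have : 12 * j + 3 - 1 = 12 * j + 2 := by omega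
    rw [this]; ring
  rw [e] at h
  refine no_four (a := 2) (b := 3) (c := 6 * j + 1) (d := 144 * j ^ 2 + 60 * j + 7)
    (by positivity) h ?_ ?_ ?_ ?_ (by norm_num) (by norm_num) (by omega) (by omega) (by norm_num)
    (cop_two (by omega)) (cop_two (by omega)) (cop_three (by omega)) (cop_three (by omega))
    (cop_of_lin (24 * j + 6) (Or.inl (by ring))).symm
  · exact ⟨_, by rw [mul_assoc, mul_assoc, mul_assoc]⟩
  · exact (((dvd_mul_left _ _).mul_right _).mul_right _).mul_right _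
  · exact ((dvd_mul_left _ _).mul_right _).mul_right _
  · exact (dvd_mul_left _ _).mul_right _

/-- the two groups -/
def IsAL (S : Type*) [Group S] : Prop :=
  (Nat.card S = 60 ∧ Nonempty (S ≃* alternatingGroup (Fin 5))) ∨
    (Nat.card S = 504 ∧ Nonempty (S ≃* ProjectiveSpecialLinearGroup (Fin 2) (GaloisField 2 3)))

theorem isAL_of_comm {G : Type*} [Group G] [Finite G] [IsSimpleGroup G]
    (hG : ¬ IsMulCommutative G) (T : Sylow 2 G) (hT : IsMulCommutative (T : Subgroup G))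
    (h3 : (Nat.card G).primeFactors.card = 3) : IsAL G := by
  rcases Cfsg.Agent.S0506.result hG T hT with ⟨a, ha, F, _, _, hF, ⟨e⟩⟩ | ⟨F, _, _, hF, ⟨e⟩⟩ |
    ⟨-, m, hm, h⟩ | ⟨-, h⟩
  · have hc := (Nat.card_congr e.toEquiv).trans (CIT.App.psl2_even_card (by omega) hF)
    rcases even_case ha (hc ▸ h3.le) with rfl | rfl
    · exact Or.inl ⟨hc, Cfsg.Agent.S0494.result hc⟩
    · have : Fact (Nat.Prime 2) := ⟨Nat.prime_two⟩
      have := Fintype.ofFinite (GaloisField 2 3)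
      have hK : Fintype.card (GaloisField 2 3) = 2 ^ 3 := by
        rw [← Nat.card_eq_fintype_card]; exact GaloisField.card 2 3 (by norm_num)
      obtain ⟨f⟩ := CIT.App.nonempty_psl_equiv (F := F) (K := GaloisField 2 3) 2 (hF.trans hK.symm)
      exact Or.inr ⟨hc, ⟨e.trans f⟩⟩
  · have hc := CIT.App.psl2_odd_card (F := F) (Nat.odd_iff.2 (by omega))
    rw [← Nat.card_congr e.toEquiv] at hc
    have := odd_case hF hc h3
    exact Or.inl ⟨this, Cfsg.Agent.S0494.result this⟩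
  · exact (ree_case hm (h ▸ h3.le)).elim
  · rw [h] at h3
    exact (no_four (a := 2) (b := 3) (c := 5) (d := 7) (by norm_num) h3.le (by norm_num)
      (by norm_num) (by norm_num) (by norm_num) (by norm_num) (by norm_num) (by norm_num)
      (by norm_num) (by norm_num) (by norm_num) (by norm_num) (by norm_num) (by norm_num)
      (by norm_num)).elim

end CfsgLib.Cls2
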