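import Mathlib
import Cfsg.Agent.Lib.Cls2.Deg
import Cfsg.Agent.Lib.Cls2.Walt
import Cfsg.Agent.Lib.FT.OddOrder
import Cfsg.Agent.Lib.ZStar.Main
import Cfsg.Agent.S0144

/-! Simple groups whose class sizes have at most two prime divisors. -/

set_option autoImplicit false
set_option linter.unusedSectionVars false
set_option linter.style.haveILetI false

namespace CfsgLib.Cls2

open Cfsg Subgroup CfsgLib.Fgs CfsgLib.Char

/-- every class size has at most two prime divisors -/
def H2 (G : Type*) [Group G] : Prop :=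
  ∀ x : G, ((centralizer ({x} : Set G)).index).primeFactors.card ≤ 2

variable {G : Type*} [Group G] [Finite G]

theorem index_ne (x : G) : (centralizer ({x} : Set G)).index ≠ 0 := index_ne_zero_of_finite

theorem H2.normal (h : H2 G) (N : Subgroup G) [N.Normal] : H2 N := fun x =>
  (Finset.card_le_card (Nat.primeFactors_mono (index_cent_normal_dvd N x) (index_ne _))).trans
    (h x)

theorem H2.surj (h : H2 G) {Q : Type*} [Group Q] {f : G →* Q} (hf : Function.Surjective f) :
    H2 Q := fun x => by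
  obtain ⟨y, rfl⟩ := hf x
  exact (Finset.card_le_card (Nat.primeFactors_mono (index_cent_map_dvd hf y)
    (index_ne _))).trans (h y)

theorem H2.no_three (h : H2 G) (x : G) {a b c : ℕ} (ha : a.Prime) (hb : b.Prime) (hc : c.Prime)
    (ab : a ≠ b) (ac : a ≠ c) (bc : b ≠ c) (da : a ∣ (centralizer ({x} : Set G)).index)
    (db : b ∣ (centralizer ({x} : Set G)).index) (dc : c ∣ (centralizer ({x} : Set G)).index) :
    False := by
  have hsub : ({a, b, c} : Finset ℕ) ⊆ (centralizer ({x} : Set G)).index.primeFactors := by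
    intro y hy
    simp only [Finset.mem_insert, Finset.mem_singleton] at hy
    rcases hy with rfl | rfl | rfl
    · exact Nat.mem_primeFactors.2 ⟨ha, da, index_ne _⟩
    · exact Nat.mem_primeFactors.2 ⟨hb, db, index_ne _⟩
    · exact Nat.mem_primeFactors.2 ⟨hc, dc, index_ne _⟩
  have := Finset.card_le_card hsub
  rw [Finset.card_eq_three.2 ⟨a, b, c, ab, ac, bc, rfl⟩] at this
  have := h x
  omega

section simple
variable [IsSimpleGroup G]

theorem not_solv (hG : ¬ IsMulCommutative G) : ¬ Group.IsSolvable G := fun h =>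
  hG ⟨⟨IsSimpleGroup.comm_iff_isSolvable.2 h⟩⟩

theorem two_le_aut (hG : ¬ IsMulCommutative G) {p : ℕ} [hp : Fact p.Prime] (P : Sylow p G)
    (hd : p ∣ Nat.card G) : 2 ≤ aut P := by
  by_contra h
  have h1 : aut P = 1 := by have := aut_pos P; omega
  have hc := comm_of_aut_lt P (by have := hp.out.two_le; nlinarith)
  refine P.ne_bot_of_dvd_card hd (eq_bot_iff.2 fun y hy => mem_bot.2 ?_)
  exact eq_one_of_norm_cent (commutator_eq_top hG) P hc hy
    ((norm_le_cent_of_aut P h1).trans (centralizer_le (Set.singleton_subset_iff.2 hy)))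

theorem two_dvd (hG : ¬ IsMulCommutative G) : 2 ∣ Nat.card G := by
  by_contra h
  exact not_solv hG (FT.odd_order_solvable (Nat.odd_iff.2 (by omega)))

theorem three_le_aut (hG : ¬ IsMulCommutative G) (T : Sylow 2 G) : 3 ≤ aut T := by
  have h := two_le_aut hG T (two_dvd hG)
  by_contra h3
  have h2 : aut T = 2 := by omega
  exact not_dvd_aut_of_comm T (comm_of_aut_lt T (by omega)) (by rw [h2])

theorem card_primes (hG : ¬ IsMulCommutative G) (h : H2 G) :
    (Nat.card G).primeFactors.card = 3 := by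
  classical
  have := Fintype.ofFinite G
  set π := (Nat.card G).primeFactors with hπ
  have h2 : 2 ∈ π := Nat.mem_primeFactors.2 ⟨Nat.prime_two, two_dvd hG, Nat.card_pos.ne'⟩
  refine le_antisymm ?_ ?_
  · have hs : ∑ p ∈ π, (X p G).ncard = ∑ x : G, (π.filter fun p => x ∈ X p G).card := by
      simp_rw [Finset.card_filter]
      rw [Finset.sum_comm]
      refine Finset.sum_congr rfl fun p _ => ?_
      rw [← Finset.card_filter, Set.ncard_eq_toFinset_card']
      congr 1; ext; simp
    have hl : ∀ x : G, π.card ≤ (π.filter fun p => x ∈ X p G).card + 2 := by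
      intro x
      have : π ⊆ (π.filter fun p => x ∈ X p G) ∪ (centralizer ({x} : Set G)).index.primeFactors := by
        intro p hp
        by_cases hx : x ∈ X p G
        · simp [hp, hx]
        · refine Finset.mem_union_right _ (Nat.mem_primeFactors.2
            ⟨Nat.prime_of_mem_primeFactors hp, not_not.1 hx, index_ne _⟩)
      have h1 := (Finset.card_le_card this).trans (Finset.card_union_le _ _)
      have := h x
      omega
    have hl1 : (π.filter fun p => (1 : G) ∈ X p G).card = π.card := by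
      rw [Finset.filter_true_of_mem fun p hp => one_mem_X (Nat.prime_of_mem_primeFactors hp)]
    have hlow : π.card * Nat.card G + 2 ≤ ∑ p ∈ π, (X p G).ncard + 2 * Nat.card G := by
      rw [hs, ← Finset.add_sum_erase _ _ (Finset.mem_univ (1 : G)), hl1]
      have h3 := Finset.sum_le_sum (s := Finset.univ.erase (1 : G)) fun x _ => hl x
      rw [Finset.sum_add_distrib, Finset.sum_const, Finset.sum_const,
        Finset.card_erase_of_mem (Finset.mem_univ _), Finset.card_univ, smul_eq_mul, smul_eq_mul,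
        ← Nat.card_eq_fintype_card] at h3
      obtain ⟨n, hn⟩ : ∃ n, Nat.card G = n + 1 := ⟨Nat.card G - 1, by
        have : 0 < Nat.card G := Nat.card_pos
        omega⟩
      rw [hn] at h3 ⊢
      simp only [Nat.add_sub_cancel] at h3
      nlinarith
    have hup : ∀ p ∈ π, 2 * (X p G).ncard ≤ Nat.card G := by
      intro p hp
      have : Fact p.Prime := ⟨Nat.prime_of_mem_primeFactors hp⟩
      obtain ⟨P⟩ : Nonempty (Sylow p G) := inferInstance
      have h1 := ncard_X_mul_le P
      have h2 := two_le_aut hG P (Nat.dvd_of_mem_primeFactors hp)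
      nlinarith
    have hup2 : 3 * (X 2 G).ncard ≤ Nat.card G := by
      obtain ⟨P⟩ : Nonempty (Sylow 2 G) := inferInstance
      have h1 := ncard_X_mul_le P
      have h2 := three_le_aut hG P
      nlinarith
    rw [← Finset.add_sum_erase _ _ h2] at hlow
    have h3 := Finset.sum_le_sum (s := π.erase 2) fun p hp => hup p (Finset.mem_of_mem_erase hp)
    rw [← Finset.mul_sum, Finset.sum_const, Finset.card_erase_of_mem h2, smul_eq_mul] at h3
    by_contra h4
    obtain ⟨k, hk⟩ : ∃ k, π.card = k + 4 := ⟨π.card - 4, by omega⟩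
    rw [hk] at h3 hlow
    have : k + 4 - 1 = k + 3 := by omega
    rw [this] at h3
    nlinarith
  · by_contra h3
    have h4 : (π.erase 2).card ≤ 1 := by rw [Finset.card_erase_of_mem h2]; omega
    obtain ⟨q, hq, hsub⟩ : ∃ q : ℕ, q.Prime ∧ ∀ r ∈ π, r = 2 ∨ r = q := by
      rcases (π.erase 2).eq_empty_or_nonempty with he | ⟨q, hq⟩
      · refine ⟨2, Nat.prime_two, fun r hr => Or.inl ?_⟩
        by_contra h5
        have : r ∈ π.erase 2 := Finset.mem_erase.2 ⟨h5, hr⟩
        simp [he] at this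
      · refine ⟨q, Nat.prime_of_mem_primeFactors (Finset.mem_of_mem_erase hq), fun r hr => ?_⟩
        by_cases h5 : r = 2
        · exact Or.inl h5
        · exact Or.inr (Finset.card_le_one.1 h4 _ (Finset.mem_erase.2 ⟨h5, hr⟩) _ hq)
    obtain ⟨a, m, hm, e⟩ := Nat.exists_eq_two_pow_mul_odd (Nat.card_pos (α := G)).ne'
    have hm0 : m ≠ 0 := by rintro rfl; simp at hm
    have e2 : m = q ^ m.primeFactorsList.length :=
      Nat.eq_prime_pow_of_unique_prime_dvd hm0 fun {d} hd hdm => by
        rcases hsub d (Nat.mem_primeFactors.2 ⟨hd, e ▸ hdm.mul_left _, Nat.card_pos.ne'⟩) with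
          rfl | h5
        · exact absurd hdm hm.not_two_dvd_nat
        · exact h5
    exact not_solv hG (Cfsg.Agent.S0144.result 2 q a _ Nat.prime_two hq (e.trans (by rw [← e2])))

end simple

/-- three primes `a, b, c` -/
structure Tri (G : Type*) [Group G] (a b c : ℕ) : Prop where
  simp : IsSimpleGroup G
  nc : ¬ IsMulCommutative G
  h2 : H2 G
  pa : a.Prime
  pb : b.Prime
  pc : c.Prime
  ab : a ≠ b
  ac : a ≠ c
  bc : b ≠ c
  dv : ∀ d, d.Prime → (d ∣ Nat.card G ↔ d = a ∨ d = b ∨ d = c)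

namespace Tri
variable {a b c : ℕ}

theorem swap₁ (h : Tri G a b c) : Tri G b a c :=
  ⟨h.simp, h.nc, h.h2, h.pb, h.pa, h.pc, h.ab.symm, h.bc, h.ac, fun d hd => by
    rw [h.dv d hd]; tauto⟩

theorem swap₂ (h : Tri G a b c) : Tri G a c b :=
  ⟨h.simp, h.nc, h.h2, h.pa, h.pc, h.pb, h.ac, h.ab, h.bc.symm, fun d hd => by
    rw [h.dv d hd]; tauto⟩

theorem da (h : Tri G a b c) : a ∣ Nat.card G := (h.dv a h.pa).2 (Or.inl rfl)

theorem cover (h : Tri G a b c) (x : G) : x ∈ X a G ∨ x ∈ X b G ∨ x ∈ X c G := by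
  by_contra hn
  simp only [X, Set.mem_ofPred_eq, not_or, not_not] at hn
  exact h.h2.no_three x h.pa h.pb h.pc h.ab h.ac h.bc hn.1 hn.2.1 hn.2.2

theorem excl (h : Tri G a b c) {x : G} (hx : x ≠ 1) (ha : x ∈ X a G) (hb : x ∈ X b G) :
    False := by
  have := h.simp
  have e := Nat.eq_prime_pow_of_unique_prime_dvd (p := c) (index_ne x) fun {d} hd hdx => by
    rcases (h.dv d hd).1 (hdx.trans (index_dvd_card _)) with rfl | rfl | rfl
    · exact absurd hdx ha
    · exact absurd hdx hb
    · rfl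
  have := mem_center_of_simple_of_prime_pow h.pc e
  rw [center_eq_bot' h.nc] at this
  exact hx (mem_bot.1 this)

theorem ineq (h : Tri G a b c) :
    Nat.card G < (X a G).ncard + (X b G).ncard + (X c G).ncard := by
  have h1 : (Set.univ : Set G) ⊆ X a G ∪ X b G ∪ X c G := fun x _ => by
    rcases h.cover x with h | h | h <;> simp [h]
  have h2 := Set.ncard_le_ncard h1 (Set.toFinite _)
  rw [Set.ncard_univ] at h2
  have h3 := Set.ncard_union_le (X a G ∪ X b G) (X c G)
  have h4 := Set.ncard_union_add_ncard_inter (X a G) (X b G)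
  have h5 : 0 < (X a G ∩ X b G).ncard :=
    (Set.ncard_pos).2 ⟨1, one_mem_X h.pa, one_mem_X h.pb⟩
  omega

end Tri

/-- abelian Sylow subgroups -/
def Ab (p : ℕ) (G : Type*) [Group G] : Prop := ∀ P : Sylow p G, IsMulCommutative (P : Subgroup G)

theorem ab_of {p : ℕ} [Fact p.Prime] (P : Sylow p G) (h : IsMulCommutative (P : Subgroup G)) :
    Ab p G := fun Q => ⟨⟨fun x y => (Sylow.equiv P Q).symm.injective (by
      rw [map_mul, map_mul, h.is_comm.comm])⟩⟩

theorem Ab.mem_X {p : ℕ} (hp : p.Prime) (h : Ab p G) {y : G} (hy : ∃ k, orderOf y = p ^ k) :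
    y ∈ X p G := by
  have : Fact p.Prime := ⟨hp⟩
  obtain ⟨P, hP⟩ := exists_sylow_mem hy
  exact mem_X_of_cent P (le_cent_of_comm (h P) hP)

namespace Tri
variable {a b c : ℕ}

theorem not_dvd_cent (h : Tri G a b c) (hb : Ab b G) {z : G} (hz : z ≠ 1) (hX : z ∈ X a G) :
    ¬ b ∣ Nat.card (centralizer ({z} : Set G)) := by
  have : Fact b.Prime := ⟨h.pb⟩
  intro hd
  obtain ⟨y, hy⟩ := exists_prime_orderOf_dvd_card' b hd
  have hy' : orderOf (y : G) = b := by rw [orderOf_coe, hy]
  have hy1 : (y : G) ≠ 1 := fun e => h.pb.one_lt.ne' (by rw [← hy', e, orderOf_one])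
  have hyX := hb.mem_X h.pb ⟨1, by rw [hy', pow_one]⟩
  have hbz : ¬ b ∣ orderOf z := by
    intro hd
    obtain ⟨u, v, hu, hv, e, hc, hu', hv'⟩ := exists_p_part b z
    by_cases hu1 : u = 1
    · rw [hu1, one_mul] at e
      exact hv' (e ▸ hd)
    · exact h.excl hu1 (mem_X_of_zpowers hu hX) (hb.mem_X h.pb hu')
  have hc : Commute z y := mem_cent_iff.1 y.2
  have hco : (orderOf z).Coprime (orderOf (y : G)) := by
    rw [hy']; exact ((Nat.Prime.coprime_iff_not_dvd h.pb).2 hbz).symm
  have h1 := left_mem_zpowers_mul_of_coprime hc hco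
  have h2 := right_mem_zpowers_mul_of_coprime hc hco
  rcases h.cover (z * y) with h3 | h3 | h3
  · exact h.excl hy1 (mem_X_of_zpowers h2 h3) hyX
  · exact h.excl hz hX (mem_X_of_zpowers h1 h3)
  · exact h.swap₂.excl hz hX (mem_X_of_zpowers h1 h3)

theorem cent_eq (h : Tri G a b c) (hb : Ab b G) (hc : Ab c G) (A : Sylow a G) {z : G}
    (hz : z ≠ 1) (hzA : z ∈ centralizer ((A : Subgroup G) : Set G)) :
    centralizer ({z} : Set G) = A := by
  have : Fact a.Prime := ⟨h.pa⟩
  have hX := mem_X_of_cent A hzA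
  have e := Nat.eq_prime_pow_of_unique_prime_dvd (p := a)
    (Nat.card_pos (α := centralizer ({z} : Set G))).ne' fun {d} hd hdx => by
    rcases (h.dv d hd).1 (hdx.trans (card_subgroup_dvd_card _)) with rfl | rfl | rfl
    · rfl
    · exact absurd hdx (h.not_dvd_cent hb hz hX)
    · exact absurd hdx (h.swap₂.not_dvd_cent hc hz hX)
  exact A.is_maximal' (IsPGroup.of_card e) fun y hy =>
    mem_cent_iff.2 (mem_centralizer_iff.1 hzA y hy).symm

theorem cent_le (h : Tri G a b c) (hb : Ab b G) (hc : Ab c G) (A : Sylow a G) :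
    centralizer ((A : Subgroup G) : Set G) ≤ A := fun z hz => by
  by_cases h1 : z = 1
  · exact h1 ▸ one_mem _
  · exact h.cent_eq hb hc A h1 hz ▸ self_mem_cent z

theorem two_of_all (h : Tri G 2 b c) (hb : Ab b G) (hc : Ab c G)
    (hall : ∀ x : G, (∃ k, orderOf x = 2 ^ k) → x ∈ X 2 G) : Ab 2 G := by
  have key : ∀ (T : Sylow 2 G) (x i : G), x ∈ (T : Subgroup G) → i ∈ zpowers x → i ≠ 1 →
      i ∈ centralizer ((T : Subgroup G) : Set G) → x ∈ centralizer ((T : Subgroup G) : Set G) := by
    intro T x i hx hi hi1 hiT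
    have hx1 : x ≠ 1 := by rintro rfl; simp at hi; exact hi1 hi
    obtain ⟨T', hT'⟩ := exists_of_mem_X (hall x (orderOf_eq_pow_of_mem_isPGroup T.isPGroup' hx))
    have h1 := cent_le_cent_of_mem_zpowers hi
    rw [h.cent_eq hb hc T' hx1 hT', h.cent_eq hb hc T hi1 hiT] at h1
    have : T = T' := Sylow.ext (T'.is_maximal' T.isPGroup' h1)
    exact this ▸ hT'
  by_cases he : ∀ (T : Sylow 2 G), ∀ z ∈ centralizer ((T : Subgroup G) : Set G), z * z = 1
  · intro T
    have hsq : ∀ x : (T : Subgroup G), x * x = 1 := fun x => by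
      obtain ⟨T', hT'⟩ :=
        exists_of_mem_X (hall x (orderOf_eq_pow_of_mem_isPGroup T.isPGroup' x.2))
      exact Subtype.ext (he T' x hT')
    refine ⟨⟨fun x y => ?_⟩⟩
    have h1 : ∀ x : (T : Subgroup G), x⁻¹ = x := fun x => inv_eq_of_mul_eq_one_right (hsq x)
    rw [← h1 (x * y), mul_inv_rev, h1, h1]
  · push Not at he
    obtain ⟨T, z, hz, hzz⟩ := he
    refine ab_of T ⟨⟨fun x y => Subtype.ext ?_⟩⟩
    suffices ∀ x ∈ (T : Subgroup G), x ∈ centralizer ((T : Subgroup G) : Set G) from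
      mem_centralizer_iff.1 (this y y.2) x x.2
    intro x hx
    by_cases hx1 : x = 1
    · exact hx1 ▸ one_mem _
    obtain ⟨k, hk⟩ := orderOf_eq_pow_of_mem_isPGroup T.isPGroup' hx
    have hd : 2 ∣ Nat.card (zpowers x) := by
      rw [Nat.card_zpowers, hk]
      refine dvd_pow_self 2 ?_
      rintro rfl
      exact hx1 (by simpa using hk)
    obtain ⟨i, hi⟩ := exists_prime_orderOf_dvd_card' 2 hd
    have hi' : orderOf (i : G) = 2 := by rw [orderOf_coe, hi]
    have hi1 : (i : G) ≠ 1 := fun e => by simp [e] at hi'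
    have hiT : (i : G) ∈ (T : Subgroup G) := (zpowers_le.2 hx) i.2
    have hii : (i : G) * i = 1 := by rw [← sq, ← hi', pow_orderOf_eq_one]
    have hc' : (i : G) * z = z * i := mem_centralizer_iff.1 hz i hiT
    have e : (i * z) * (i * z) = z * z := by
      calc (i * z) * (i * z) = i * (z * i) * z := by group
        _ = i * (i * z) * z := by rw [hc']
        _ = (i * i) * (z * z) := by group
        _ = z * z := by rw [hii, one_mul]
    have h3 := key T (i * z) (z * z) (mul_mem hiT (h.cent_le hb hc T hz))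
      (e ▸ mul_mem (mem_zpowers _) (mem_zpowers _)) hzz (mul_mem hz hz)
    exact key T x i hx i.2 hi1 (by simpa using mul_mem h3 (inv_mem hz))

theorem four (h : Tri G 2 b c) (hb : Ab b G) (hc : Ab c G) (h4 : ∀ T : Sylow 2 G, aut T = 4) :
    Ab 2 G := by
  have := h.simp
  intro T0
  by_contra hn0
  have hna : ∀ T : Sylow 2 G, ¬ IsMulCommutative (T : Subgroup G) := fun T hT =>
    hn0 (ab_of T hT T0)
  have hidx : ∀ T : Sylow 2 G, (center (T : Subgroup G)).index = 4 := fun T =>
    Nat.dvd_antisymm (h4 T ▸ index_center_dvd_aut T) (sq_dvd_index_center T.isPGroup' (hna T))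
  have hmem : ∀ (T : Sylow 2 G) (x : (T : Subgroup G)), x ∈ center (T : Subgroup G) ↔
      (x : G) ∈ centralizer ((T : Subgroup G) : Set G) := fun T x => by
    simp only [mem_center_iff, mem_centralizer_iff]
    exact ⟨fun h y hy => congrArg Subtype.val (h ⟨y, hy⟩), fun h y => Subtype.ext (h y y.2)⟩
  have hsq : ∀ (T : Sylow 2 G), ∀ x ∈ (T : Subgroup G),
      x * x ∈ centralizer ((T : Subgroup G) : Set G) := by
    intro T x hx
    have hcard : Nat.card ((T : Subgroup G) ⧸ center (T : Subgroup G)) = 2 ^ 2 := hidx T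
    set y : (T : Subgroup G) ⧸ center (T : Subgroup G) := QuotientGroup.mk ⟨x, hx⟩ with hy
    obtain ⟨k, hk, e⟩ := (Nat.dvd_prime_pow Nat.prime_two).1 (hcard ▸ orderOf_dvd_natCard y)
    have hk2 : k ≠ 2 := by
      rintro rfl
      have := isCyclic_of_orderOf_eq_card y (e.trans hcard.symm)
      exact hna T (MonoidHom.isMulCommutative_of_isCyclic_of_ker_le_center
        (QuotientGroup.mk' (center (T : Subgroup G))) (by simp))
    have h2 : y ^ 2 = 1 := orderOf_dvd_iff_pow_eq_one.1 (by
      rw [e]; interval_cases k <;> simp at hk2 ⊢)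
    rw [hy, ← QuotientGroup.mk_pow, QuotientGroup.eq_one_iff, hmem] at h2
    simpa [sq] using h2
  have hN : ∀ T : Sylow 2 G, normalizer ((T : Subgroup G) : Set G) ≤ T := by
    intro T
    have h1 := relIndex_mul_relIndex _ _ _ (h.cent_le hb hc T) (T : Subgroup G).le_normalizer
    have h2 : (centralizer ((T : Subgroup G) : Set G)).relIndex T = 4 := by
      rw [← hidx T]
      unfold relIndex
      congr 1
      ext x
      rw [hmem, mem_subgroupOf]
    rw [h2, show relIndex _ _ = 4 from h4 T] at h1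
    exact relIndex_eq_one.1 (by omega)
  have hel : ∀ (T : Sylow 2 G), ∀ z ∈ centralizer ((T : Subgroup G) : Set G), z * z = 1 := by
    intro T
    have hnt : Nontrivial (T : Subgroup G) :=
      (nontrivial_iff_ne_bot _).2 (T.ne_bot_of_dvd_card h.da)
    have := T.isPGroup'.center_nontrivial
    have hd : 2 ∣ Nat.card (center (T : Subgroup G)) := by
      obtain ⟨k, hk⟩ := (T.isPGroup'.to_subgroup (center (T : Subgroup G))).exists_card_eq
      rw [hk]
      refine dvd_pow_self 2 ?_
      rintro rfl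
      exact absurd hk (Finite.one_lt_card (α := center (T : Subgroup G))).ne'
    obtain ⟨u, hu⟩ := exists_prime_orderOf_dvd_card' 2 hd
    have hu' : orderOf ((u : (T : Subgroup G)) : G) = 2 := by rw [orderOf_coe, orderOf_coe, hu]
    set z : G := ((u : (T : Subgroup G)) : G)
    have hzT : z ∈ (T : Subgroup G) := u.1.2
    have hzC : z ∈ centralizer ((T : Subgroup G) : Set G) := (hmem T u).1 u.2
    have hz1 : z ≠ 1 := fun e => by simp [e] at hu'
    obtain ⟨g, hg, hgz⟩ : ∃ g : G, g * z * g⁻¹ ∈ T ∧ g * z * g⁻¹ ≠ z := by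
      by_contra hh
      push Not at hh
      exact ZStar.not_isolated_of_simple h.nc z (ZStar.isIsolatedInvolution_of_sylow T hu' hzT hh)
    have hw1 : g * z * g⁻¹ ≠ 1 := by simpa using hz1
    have hwC : centralizer ({g * z * g⁻¹} : Set G) = (g • T : Sylow 2 G) := by
      rw [cent_conj, h.cent_eq hb hc T hz1 hzC, Sylow.coe_subgroup_smul]; rfl
    have hne : g • T ≠ T := by
      intro e
      have hgT := hN T (Sylow.smul_eq_iff_mem_normalizer.1 e)
      exact hgz (by rw [mem_centralizer_iff.1 hzC g hgT]; group)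
    intro v hv
    by_contra hvv
    have hv' : v ∈ ((g • T : Sylow 2 G) : Subgroup G) :=
      hwC ▸ mem_cent_iff.2 (mem_centralizer_iff.1 hv _ hg)
    have e1 := h.cent_eq hb hc _ hvv (hsq _ v hv')
    have e2 := h.cent_eq hb hc _ hvv (mul_mem hv hv)
    exact hne (Sylow.ext (e1.symm.trans e2))
  refine hn0 ⟨⟨fun x y => ?_⟩⟩
  have hsq' : ∀ x : (T0 : Subgroup G), x * x = 1 := fun x => by
    by_contra hx
    have hx' : (x : G) * x ≠ 1 := fun e => hx (Subtype.ext e)
    have hX := mem_X_of_cent T0 (hsq T0 x x.2)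
    have hz : (x : G) * x ∈ zpowers (x : G) := mul_mem (mem_zpowers _) (mem_zpowers _)
    rcases h.cover x with h1 | h1 | h1
    · obtain ⟨T, hT⟩ := exists_of_mem_X h1
      exact hx' (hel T x hT)
    · exact h.excl hx' hX (mem_X_of_zpowers hz h1)
    · exact h.swap₂.excl hx' hX (mem_X_of_zpowers hz h1)
  have h1 : ∀ x : (T0 : Subgroup G), x⁻¹ = x := fun x => inv_eq_of_mul_eq_one_right (hsq' x)
  rw [← h1 (x * y), mul_inv_rev, h1, h1]

theorem pow_of_mem_X (h : Tri G 2 b c) (C : Sylow c G) (hC : IsMulCommutative (C : Subgroup G))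
    (he : aut C = 2) {x : G} (hx : x ∈ X b G) : ∃ k, orderOf x ∣ b ^ k := by
  have := h.simp
  have : Fact b.Prime := ⟨h.pb⟩
  have : Fact c.Prime := ⟨h.pc⟩
  obtain ⟨χ, ψ, m, n, hχ, hψ, χ1, ψ1, em, en, e, hm, hn⟩ := twoDeg h.nc c h.ac.symm C
    (fun e => C.ne_bot_of_dvd_card h.swap₂.swap₁.da (card_eq_one.1 e)) hC he
  obtain ⟨B, hB⟩ := exists_of_mem_X hx
  have key : ∀ (φ : G → ℂ) (d : ℕ), IsIrrCharacter G φ → φ ≠ (fun _ => 1) → φ 1 = d →
      ¬ c ∣ d → ¬ 2 ∣ d → ∃ k, orderOf x ∣ b ^ k := by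
    intro φ d hφ φ1 ed hc h2
    have := Fintype.ofFinite G
    have hd := irr_one_dvd_card hφ ed
    have e := Nat.eq_prime_pow_of_unique_prime_dvd (p := b) (n := d) (by rintro rfl; simp at h2)
      fun {r} hr hrd => by
        rcases (h.dv r hr).1 (hrd.trans hd) with rfl | rfl | rfl
        · exact absurd hrd h2
        · rfl
        · exact absurd hrd hc
    exact ⟨_, (orderOf_dvd_natCard _ hB).trans (card_cent_dvd h.nc B hφ φ1 (ed.trans (by rw [← e])))⟩
  by_cases h2 : 2 ∣ m
  · exact key ψ n hψ ψ1 en hn (by omega)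
  · exact key χ m hχ χ1 em hm h2

theorem ab_two (h : Tri G 2 b c) : Ab 2 G := by
  have := h.simp
  have : Fact b.Prime := ⟨h.pb⟩
  have : Fact c.Prime := ⟨h.pc⟩
  intro T0
  by_contra hn0
  have hna : ∀ T : Sylow 2 G, 2 ^ 2 ∣ aut T := fun T =>
    (sq_dvd_index_center T.isPGroup' fun hT => hn0 (ab_of T hT T0)).trans (index_center_dvd_aut T)
  obtain ⟨B⟩ : Nonempty (Sylow b G) := inferInstance
  obtain ⟨C⟩ : Nonempty (Sylow c G) := inferInstance
  have hi := h.ineq
  have h1 := ncard_X_mul_le T0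
  have h2 := ncard_X_mul_le B
  have h3 := ncard_X_mul_le C
  have h4 := Nat.le_of_dvd (aut_pos T0) (hna T0)
  have h5 := two_le_aut h.nc B h.swap₁.da
  have h6 := two_le_aut h.nc C h.swap₂.swap₁.da
  have h7 : aut B ≤ 3 := by by_contra; nlinarith
  have h8 : aut C ≤ 3 := by by_contra; nlinarith
  have hB := comm_of_aut_lt B (by have := h.pb.two_le; nlinarith)
  have hC := comm_of_aut_lt C (by have := h.pc.two_le; nlinarith)
  by_cases h9 : aut B = 2 ∧ aut C = 2
  · refine hn0 (h.two_of_all (ab_of B hB) (ab_of C hC) (fun x ⟨k, hk⟩ => ?_) T0)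
    have key : ∀ {d j : ℕ}, d.Prime → 2 ≠ d → orderOf x ∣ d ^ j → x ∈ X 2 G := by
      intro d j hd h2 hj
      have : x = 1 := orderOf_eq_one_iff.1 (Nat.eq_one_of_dvd_coprimes
        (Nat.Coprime.pow k j ((Nat.coprime_primes Nat.prime_two hd).2 h2)) hk.dvd hj)
      exact this ▸ one_mem_X Nat.prime_two
    rcases h.cover x with h1 | h1 | h1
    · exact h1
    · obtain ⟨j, hj⟩ := h.pow_of_mem_X C hC h9.2 h1
      exact key h.pb h.ab hj
    · obtain ⟨j, hj⟩ := h.swap₂.pow_of_mem_X B hB h9.1 h1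
      exact key h.pc h.ac hj
  · refine hn0 (h.four (ab_of B hB) (ab_of C hC) (fun T => ?_) T0)
    have h1 := ncard_X_mul_le T
    obtain ⟨k, hk⟩ := hna T
    have := aut_pos T
    by_contra h10
    have h11 : 8 ≤ aut T := by omega
    have : aut B = 3 ∨ aut C = 3 := by omega
    have g1 := (Nat.mul_le_mul_left (X 2 G).ncard h11).trans h1
    have g2 := (Nat.mul_le_mul_left (X b G).ncard h5).trans h2
    have g3 := (Nat.mul_le_mul_left (X c G).ncard h6).trans h3
    rcases this with e | e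
    · rw [e] at h2; omega
    · rw [e] at h3; omega

end Tri

theorem exists_tri [IsSimpleGroup G] (hG : ¬ IsMulCommutative G) (h : H2 G) :
    ∃ b c, Tri G 2 b c := by
  have h3 := card_primes hG h
  have h2 : 2 ∈ (Nat.card G).primeFactors :=
    Nat.mem_primeFactors.2 ⟨Nat.prime_two, two_dvd hG, Nat.card_pos.ne'⟩
  have h4 : ((Nat.card G).primeFactors.erase 2).card = 2 := by
    rw [Finset.card_erase_of_mem h2, h3]
  obtain ⟨b, c, bc, e⟩ := Finset.card_eq_two.1 h4
  have hb : b ∈ (Nat.card G).primeFactors.erase 2 := by simp [e]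
  have hc : c ∈ (Nat.card G).primeFactors.erase 2 := by simp [e]
  rw [Finset.mem_erase] at hb hc
  refine ⟨b, c, inferInstance, hG, h, Nat.prime_two, Nat.prime_of_mem_primeFactors hb.2,
    Nat.prime_of_mem_primeFactors hc.2, hb.1.symm, hc.1.symm, bc, fun d hd => ⟨fun hdd => ?_, ?_⟩⟩
  · by_cases h5 : d = 2
    · exact Or.inl h5
    · have : d ∈ (Nat.card G).primeFactors.erase 2 :=
        Finset.mem_erase.2 ⟨h5, Nat.mem_primeFactors.2 ⟨hd, hdd, Nat.card_pos.ne'⟩⟩
      rw [e] at this
      exact Or.inr (by simpa using this)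
  · rintro (rfl | rfl | rfl)
    · exact two_dvd hG
    · exact Nat.dvd_of_mem_primeFactors hb.2
    · exact Nat.dvd_of_mem_primeFactors hc.2

theorem isAL [IsSimpleGroup G] (hG : ¬ IsMulCommutative G) (h : H2 G) : IsAL G ∧ Ab 2 G := by
  obtain ⟨b, c, ht⟩ := exists_tri hG h
  obtain ⟨T⟩ : Nonempty (Sylow 2 G) := inferInstance
  exact ⟨isAL_of_comm hG T (ht.ab_two T) (card_primes hG h), ht.ab_two⟩

end CfsgLib.Cls2
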