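import Mathlib
import Cfsg.Agent.Lib.Cls2.Simple
import Cfsg.Agent.Lib.Core.MinNormal
import Cfsg.Agent.Lib.Char.Taketa

/-! Groups whose class sizes have at most two prime divisors. -/

set_option autoImplicit false
set_option linter.unusedSectionVars false
set_option linter.style.haveILetI false

namespace CfsgLib.Cls2

open Cfsg Subgroup CfsgLib.Fgs CfsgLib.Char
open scoped commutatorElement

variable {G : Type*} [Group G] [Finite G]

theorem ab_of_not_cube {p : ℕ} [hp : Fact p.Prime] (h : ¬ p ^ 3 ∣ Nat.card G) : Ab p G := by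
  intro P
  by_contra hn
  have h1 := sq_dvd_index_center P.isPGroup' hn
  have hnt : Nontrivial (P : Subgroup G) := by
    by_contra h2
    rw [not_nontrivial_iff_subsingleton] at h2
    exact hn ⟨⟨fun a b => Subsingleton.elim _ _⟩⟩
  have := P.isPGroup'.center_nontrivial
  obtain ⟨k, hk⟩ := (P.isPGroup'.to_subgroup (center (P : Subgroup G))).exists_card_eq
  have h2 : p ∣ Nat.card (center (P : Subgroup G)) := by
    rw [hk]
    refine dvd_pow_self p ?_
    rintro rfl
    exact absurd hk (Finite.one_lt_card (α := center (P : Subgroup G))).ne'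
  refine h (dvd_trans ?_ (card_subgroup_dvd_card (P : Subgroup G)))
  rw [← index_mul_card (center (P : Subgroup G)), pow_succ]
  exact mul_dvd_mul h1 h2

section simple
variable [IsSimpleGroup G]

theorem card_cases (hG : ¬ IsMulCommutative G) (h : H2 G) :
    Nat.card G = 60 ∨ Nat.card G = 504 := (isAL hG h).1.imp And.left And.left

theorem ab_all (hG : ¬ IsMulCommutative G) (h : H2 G) {p : ℕ} (hp : p.Prime) : Ab p G := by
  have : Fact p.Prime := ⟨hp⟩
  by_cases h2 : p = 2
  · exact h2 ▸ (isAL hG h).2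
  refine ab_of_not_cube fun hd => ?_
  have h3 : p ^ 3 ≤ 504 := by
    have := Nat.le_of_dvd Nat.card_pos hd
    rcases card_cases hG h with e | e <;> omega
  have h4 : p < 8 := by
    by_contra h5
    have := Nat.pow_le_pow_left (show 8 ≤ p by omega) 3
    omega
  have := hp.two_le
  rcases card_cases hG h with e | e <;> rw [e] at hd <;> interval_cases p <;> simp_all

theorem exists_tri' (hG : ¬ IsMulCommutative G) (h : H2 G) {a : ℕ} (ha : a.Prime)
    (hd : a ∣ Nat.card G) : ∃ b c, Tri G a b c := by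
  obtain ⟨b, c, ht⟩ := exists_tri hG h
  rcases (ht.dv a ha).1 hd with rfl | rfl | rfl
  · exact ⟨b, c, ht⟩
  · exact ⟨_, _, ht.swap₁⟩
  · exact ⟨_, _, ht.swap₂.swap₁⟩

theorem dvd_of_mem {a : ℕ} (_ha : a.Prime) {x : G} (hx : x ≠ 1) (hk : ∃ k, orderOf x = a ^ k) :
    a ∣ Nat.card G := by
  obtain ⟨k, hk⟩ := hk
  refine dvd_trans ?_ (orderOf_dvd_natCard x)
  rw [hk]
  refine dvd_pow_self a ?_
  rintro rfl
  exact hx (by simpa using hk)

theorem cent_eq_sylow (hG : ¬ IsMulCommutative G) (h : H2 G) {a : ℕ} (ha : a.Prime)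
    (A : Sylow a G) {z : G} (hz : z ≠ 1) (hzA : z ∈ (A : Subgroup G)) :
    centralizer ({z} : Set G) = A := by
  have : Fact a.Prime := ⟨ha⟩
  obtain ⟨b, c, ht⟩ := exists_tri' hG h ha
    (dvd_of_mem ha hz (orderOf_eq_pow_of_mem_isPGroup A.isPGroup' hzA))
  exact ht.cent_eq (ab_all hG h ht.pb) (ab_all hG h ht.pc) A hz
    (le_cent_of_comm (ab_all hG h ha A) hzA)

/-- two primes other than `l` divide the class size -/
def Two (l : ℕ) {G : Type*} [Group G] (x : G) : Prop :=
  ∃ a b : ℕ, a.Prime ∧ b.Prime ∧ a ≠ b ∧ a ≠ l ∧ b ≠ l ∧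
    a ∣ (centralizer ({x} : Set G)).index ∧ b ∣ (centralizer ({x} : Set G)).index

theorem two_of_elt (hG : ¬ IsMulCommutative G) (h : H2 G) {a : ℕ} (ha : a.Prime) {x : G}
    (hx : x ≠ 1) (hk : ∃ k, orderOf x = a ^ k) : Two a x := by
  obtain ⟨b, c, ht⟩ := exists_tri' hG h ha (dvd_of_mem ha hx hk)
  have hX := (ab_all hG h ha).mem_X ha hk
  exact ⟨b, c, ht.pb, ht.pc, ht.bc, ht.ab.symm, ht.ac.symm,
    not_not.1 fun hb => ht.excl hx hX hb, not_not.1 fun hc => ht.swap₂.excl hx hX hc⟩

theorem exists_two (hG : ¬ IsMulCommutative G) (h : H2 G) {l : ℕ} (hl : l.Prime) :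
    ∃ x : G, x ≠ 1 ∧ Two l x := by
  by_cases hd : l ∣ Nat.card G
  · have : Fact l.Prime := ⟨hl⟩
    obtain ⟨x, hx⟩ := exists_prime_orderOf_dvd_card' l hd
    have hx1 : x ≠ 1 := fun e => hl.one_lt.ne' (by rw [← hx, e, orderOf_one])
    exact ⟨x, hx1, two_of_elt hG h hl hx1 ⟨1, by rw [hx, pow_one]⟩⟩
  · obtain ⟨x, hx⟩ := exists_prime_orderOf_dvd_card' 2 (two_dvd hG)
    have hx1 : x ≠ 1 := fun e => by simp [e] at hx
    obtain ⟨a, b, ha, hb, ab, -, -, da, db⟩ :=
      two_of_elt hG h Nat.prime_two hx1 ⟨1, by rw [hx, pow_one]⟩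
    exact ⟨x, hx1, a, b, ha, hb, ab, fun e => hd (e ▸ da.trans (index_dvd_card _)),
      fun e => hd (e ▸ db.trans (index_dvd_card _)), da, db⟩

theorem modEq_of_dvd_norm (hG : ¬ IsMulCommutative G) (h : H2 G) (T : Sylow 2 G) {s : ℕ}
    (hs : s.Prime) (hs2 : s ≠ 2) (hd : s ∣ Nat.card (normalizer ((T : Subgroup G) : Set G))) :
    Nat.card T ≡ 1 [MOD s] := by
  have : Fact s.Prime := ⟨hs⟩
  obtain ⟨g, hg⟩ := exists_prime_orderOf_dvd_card' s hd
  letI : MulAction (zpowers g) (T : Subgroup G) :=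
    MulAction.compHom _ ((T : Subgroup G).normalizerMonoidHom.comp (zpowers g).subtype)
  have hp : IsPGroup s (zpowers g) := IsPGroup.of_card (n := 1) (by
    rw [Nat.card_zpowers, hg, pow_one])
  have h1 := hp.card_modEq_card_fixedPoints (T : Subgroup G)
  have h2 : MulAction.fixedPoints (zpowers g) (T : Subgroup G) = {1} := by
    refine Set.eq_singleton_iff_unique_mem.2 ⟨fun m => map_one
      ((T : Subgroup G).normalizerMonoidHom m.1), fun t ht => ?_⟩
    by_contra ht1
    have h3 : (g : G) * t * (g : G)⁻¹ = t := congrArg Subtype.val (ht ⟨g, mem_zpowers g⟩)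
    have h4 : (g : G) ∈ centralizer ({(t : G)} : Set G) :=
      mem_cent_iff.2 (mul_inv_eq_iff_eq_mul.1 h3).symm
    rw [cent_eq_sylow hG h Nat.prime_two T (fun e => ht1 (Subtype.ext e)) t.2] at h4
    obtain ⟨k, hk⟩ := orderOf_eq_pow_of_mem_isPGroup T.isPGroup' h4
    rw [orderOf_coe, hg] at hk
    exact hs2 ((Nat.prime_dvd_prime_iff_eq hs Nat.prime_two).1 (hs.dvd_of_dvd_pow hk.dvd))
  rw [h2] at h1
  simpa using h1

/-- a Sylow subgroup acting regularly on the Sylow 2-subgroups -/
theorem exists_reg (hG : ¬ IsMulCommutative G) (h : H2 G) (T : Sylow 2 G) :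
    ∃ s, s.Prime ∧ s ≠ 2 ∧ s ∣ Nat.card G ∧
      ¬ s ∣ Nat.card (normalizer ((T : Subgroup G) : Set G)) ∧
      Nat.card (Sylow 2 G) = s ^ (Nat.card G).factorization s := by
  have h1 := aut_mul_card T
  have h2 := index_mul_card (normalizer ((T : Subgroup G) : Set G))
  have h3 : Nat.card (Sylow 2 G) = (normalizer ((T : Subgroup G) : Set G)).index :=
    Sylow.card_eq_index_normalizer T
  obtain ⟨b, c, ht⟩ := exists_tri hG h
  have h4 : centralizer ((T : Subgroup G) : Set G) = T :=
    le_antisymm (ht.cent_le (ab_all hG h ht.pb) (ab_all hG h ht.pc) T)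
      (le_cent_of_comm (ab_all hG h Nat.prime_two T))
  have h5 : Nat.card (T : Subgroup G) = _ := T.card_eq_multiplicity
  have h6 := three_le_aut hG T
  rw [h4] at h1
  rw [← h3, ← h1] at h2
  rcases card_cases hG h with e | e
  · have f2 : (60 : ℕ).factorization 2 = 2 := by decide +kernel
    have f5 : (60 : ℕ).factorization 5 = 1 := by decide +kernel
    rw [e, f2] at h5
    have h7 : ¬ 5 ∣ Nat.card (normalizer ((T : Subgroup G) : Set G)) := fun hd => by
      have := modEq_of_dvd_norm hG h T Nat.prime_five (by norm_num) hd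
      rw [h5] at this
      exact absurd this (by decide)
    refine ⟨5, Nat.prime_five, by norm_num, by rw [e]; norm_num, h7, ?_⟩
    rw [← h1, h5] at h7
    rw [h5, e] at h2
    rw [e, f5]
    have h8 : aut T ∣ 15 := Dvd.intro_left (Nat.card (Sylow 2 G)) (by linarith)
    have := Nat.le_of_dvd (by norm_num) h8
    interval_cases (aut T) <;> omega
  · have f2 : (504 : ℕ).factorization 2 = 3 := by decide +kernel
    have f3 : (504 : ℕ).factorization 3 = 2 := by decide +kernel
    rw [e, f2] at h5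
    have h7 : ¬ 3 ∣ Nat.card (normalizer ((T : Subgroup G) : Set G)) := fun hd => by
      have := modEq_of_dvd_norm hG h T Nat.prime_three (by norm_num) hd
      rw [h5] at this
      exact absurd this (by decide)
    refine ⟨3, Nat.prime_three, by norm_num, by rw [e]; norm_num, h7, ?_⟩
    rw [← h1, h5] at h7
    rw [h5, e] at h2
    rw [e, f3]
    have h8 : aut T ∣ 63 := Dvd.intro_left (Nat.card (Sylow 2 G)) (by linarith)
    have := Nat.le_of_dvd (by norm_num) h8
    interval_cases (aut T) <;> omega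

theorem eq_one_of_fix (hG : ¬ IsMulCommutative G) {m : G} (hm : ∀ T : Sylow 2 G, m • T = T) :
    m = 1 := by
  rcases (inferInstance : (MulAction.toPermHom G (Sylow 2 G)).ker.Normal).eq_bot_or_eq_top with
    e | e
  · exact mem_bot.1 (e ▸ (MonoidHom.mem_ker.2 (Equiv.ext hm)))
  · exfalso
    obtain ⟨T⟩ : Nonempty (Sylow 2 G) := inferInstance
    have hn : (T : Subgroup G).Normal := by
      rw [← normalizer_eq_top_iff, eq_top_iff]
      intro g _
      have : g ∈ (MulAction.toPermHom G (Sylow 2 G)).ker := e ▸ mem_top g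
      exact Sylow.smul_eq_iff_mem_normalizer.1 (congrArg (fun f => f T) (MonoidHom.mem_ker.1 this))
    rcases hn.eq_bot_or_eq_top with e | e
    · exact T.ne_bot_of_dvd_card (two_dvd hG) e
    · have := T.isPGroup'
      rw [e] at this
      have := (this.of_equiv topEquiv).isNilpotent
      exact not_solv hG inferInstance

theorem inner_of_cent (hG : ¬ IsMulCommutative G) (h : H2 G) (T : Sylow 2 G) {s : ℕ}
    [hs : Fact s.Prime] (hn : ¬ s ∣ Nat.card (normalizer ((T : Subgroup G) : Set G)))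
    (hc : Nat.card (Sylow 2 G) = s ^ (Nat.card G).factorization s) (Q : Sylow s G)
    (α : MulAut G) (hα : ∀ q ∈ (Q : Subgroup G), α q = q) : ∃ q : G, α = MulAut.conj q := by
  have hQ := ab_all hG h hs.out Q
  have hinj : Function.Injective fun q : (Q : Subgroup G) => (q : G) • T := by
    intro x y e
    have e' : (x : G) • T = (y : G) • T := e
    have h1 : ((y⁻¹ * x : (Q : Subgroup G)) : G) ∈ normalizer ((T : Subgroup G) : Set G) := by
      refine Sylow.smul_eq_iff_mem_normalizer.1 ?_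
      push_cast
      rw [mul_smul, e', inv_smul_smul]
    obtain ⟨k, hk⟩ := orderOf_eq_pow_of_mem_isPGroup Q.isPGroup' (y⁻¹ * x).2
    have h2 := orderOf_dvd_natCard _ h1
    rw [hk] at h2
    rcases k with _ | k
    · have : ((y⁻¹ * x : (Q : Subgroup G)) : G) = 1 := by simpa using hk
      exact (inv_mul_eq_one.1 (Subtype.ext this : y⁻¹ * x = 1)).symm
    · exact absurd ((dvd_pow_self s (Nat.succ_ne_zero k)).trans h2) hn
  have hsurj := (hinj.bijective_of_nat_card_le (by
    rw [hc]; exact Q.card_eq_multiplicity.ge)).2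
  have hcomm : ∀ m : G, α * MulAut.conj m = MulAut.conj (α m) * α := fun m => by
    ext x; simp
  obtain ⟨q, hq⟩ := hsurj (α • T)
  have hq' : (q : G) • T = α • T := hq
  have hall : ∀ T' : Sylow 2 G, α • T' = (q : G) • T' := by
    intro T'
    obtain ⟨y, rfl⟩ := hsurj T'
    have e : (y : G) * q = q * y := congrArg Subtype.val (hQ.is_comm.comm y q)
    change α • (y : G) • T = (q : G) • (y : G) • T
    rw [Sylow.smul_def, ← mul_smul, hcomm, hα y y.2, mul_smul, ← hq', ← Sylow.smul_def,
      ← Sylow.smul_def, ← mul_smul, ← mul_smul, e]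
  refine ⟨q, MulEquiv.ext fun m => ?_⟩
  have := eq_one_of_fix hG (m := (q * m * (q : G)⁻¹)⁻¹ * α m) fun T' => by
    obtain ⟨T'', rfl⟩ : ∃ T'' : Sylow 2 G, T' = α • T'' := ⟨α⁻¹ • T', by simp⟩
    have e1 : α m • α • T'' = α • m • T'' := by
      rw [Sylow.smul_def, Sylow.smul_def, ← mul_smul, ← mul_smul, hcomm]
    rw [mul_smul, e1, hall, hall, inv_smul_eq_iff, ← mul_smul, ← mul_smul]
    congr 1; group
  rw [inv_mul_eq_one] at this
  simp [← this]

end simple

theorem outer (h : H2 G) (M : Subgroup G) [M.Normal] [IsSimpleGroup M]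
    (hM : ¬ IsMulCommutative M) : M ⊔ centralizer (M : Set G) = ⊤ := by
  rw [eq_top_iff]
  intro g _
  by_contra hg
  have hM2 := h.normal M
  obtain ⟨T⟩ : Nonempty (Sylow 2 M) := inferInstance
  obtain ⟨s, hs, hs2, hsd, hn, hc⟩ := exists_reg hM hM2 T
  have : Fact s.Prime := ⟨hs⟩
  obtain ⟨b, c, ht⟩ := exists_tri hM hM2
  obtain ⟨c, ht⟩ : ∃ c, Tri M 2 s c := by
    rcases (ht.dv s hs).1 hsd with rfl | rfl | rfl
    · exact absurd rfl hs2
    · exact ⟨_, ht⟩
    · exact ⟨_, ht.swap₂⟩
  have : Fact c.Prime := ⟨ht.pc⟩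
  have hF : ∀ n : M, n ∉ F s M g := by
    intro n hn'
    obtain ⟨Q, hQ⟩ := exists_sylow_le_of_not_dvd_index (p := s)
      (H := (centralizer ({g * n} : Set G)).subgroupOf M) hn'
    obtain ⟨q, hq⟩ := inner_of_cent hM hM2 T hn hc Q (MulAut.conjNormal (g * n)) fun q hq => by
      have := mem_cent_iff.1 (mem_subgroupOf.1 (hQ hq))
      ext
      rw [MulAut.conjNormal_apply, this.eq]; group
    apply hg
    have h1 : (q : G)⁻¹ * (g * n) ∈ centralizer (M : Set G) := by
      rw [mem_centralizer_iff]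
      intro m hm
      have := congrArg (fun f : MulAut M => ((f ⟨m, hm⟩ : M) : G)) hq
      simp only [MulAut.conjNormal_apply, MulAut.conj_apply, coe_mul, coe_inv] at this
      calc m * ((q : G)⁻¹ * (g * n)) = (q : G)⁻¹ * (q * m * (q : G)⁻¹) * (g * n) := by group
        _ = (q : G)⁻¹ * (g * n * m * (g * n)⁻¹) * (g * n) := by rw [this]
        _ = _ := by group
    have : g = q * ((q : G)⁻¹ * (g * n)) * (n : G)⁻¹ := by group
    rw [this]
    exact mul_mem (mul_mem (mem_sup_left q.2) (mem_sup_right h1)) (mem_sup_left (inv_mem n.2))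
  have hcov : (Set.univ : Set M) ⊆ F 2 M g ∪ F c M g := by
    intro n _
    by_contra hh
    simp only [Set.mem_union, not_or, F, Set.mem_ofPred_eq, not_not] at hh
    have h3 := not_not.1 (hF n)
    have hd := relIndex_dvd_index_of_normal_right (centralizer ({g * n} : Set G)) M
    exact h.no_three (g * n) ht.pa ht.pb ht.pc ht.ab ht.ac ht.bc (hh.1.trans hd) (h3.trans hd)
      (hh.2.trans hd)
  obtain ⟨C⟩ : Nonempty (Sylow c M) := inferInstance
  have h1 := (Set.ncard_le_ncard hcov (Set.toFinite _)).trans (Set.ncard_union_le _ _)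
  rw [Set.ncard_univ] at h1
  have h2 := (Nat.mul_le_mul_left _ (three_le_aut hM T)).trans (ncard_F_mul_le M g T)
  have h3 := (Nat.mul_le_mul_left _ (two_le_aut hM C ht.swap₂.swap₁.da)).trans
    (ncard_F_mul_le M g C)
  have : 0 < Nat.card M := Nat.card_pos
  omega

theorem Two.not_dvd (h : H2 G) {S : Type*} [Group S] {f : G →* S} (hf : Function.Surjective f)
    {l : ℕ} (hl : l.Prime) {x : G} (hx : Two l (f x)) :
    ¬ l ∣ (centralizer ({x} : Set G)).index := by
  obtain ⟨a, b, ha, hb, ab, al, bl, da, db⟩ := hx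
  exact h.no_three x ha hb hl ab al bl (da.trans (index_cent_map_dvd hf x))
    (db.trans (index_cent_map_dvd hf x))

theorem le_center (h : H2 G) (N : Subgroup G) [N.Normal] [IsSimpleGroup (G ⧸ N)]
    (hS : ¬ IsMulCommutative (G ⧸ N)) : N ≤ center G := by
  have hs := QuotientGroup.mk'_surjective N
  intro n hn
  rw [mem_center_iff]
  intro m
  rw [← commutatorElement_eq_one_iff_mul_comm, ← orderOf_eq_one_iff]
  by_contra hne
  obtain ⟨l, hl, hd⟩ := Nat.exists_prime_and_dvd hne
  have : Fact l.Prime := ⟨hl⟩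
  obtain ⟨x', hx1, hx⟩ := exists_two hS (h.surj hs) hl
  obtain ⟨x, rfl⟩ := hs x'
  have hF : ∀ y : N, y ∈ F l N x := fun y hy =>
    Two.not_dvd h hs hl (x := x * y) (by simpa using hx)
      (hy.trans (relIndex_dvd_index_of_normal_right _ N))
  obtain ⟨Q⟩ : Nonempty (Sylow l N) := inferInstance
  have h1 := ncard_F_mul_le N x Q
  rw [Set.eq_univ_of_forall hF, Set.ncard_univ] at h1
  have h2 : aut Q = 1 := by
    have := aut_pos Q
    have : 0 < Nat.card N := Nat.card_pos
    nlinarith
  have hK := Transfer.burnside_normal_complement Q (norm_le_cent_of_aut Q h2)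
  have := Transfer.pResidual_characteristic l N
  set K := (pResidual l N).map N.subtype with hKd
  have : K.Normal := inferInstance
  set D := (centralizer ((N.map (QuotientGroup.mk' K) : Subgroup (G ⧸ K)) : Set (G ⧸ K))).comap
    (QuotientGroup.mk' K) with hD
  have : (N.map (QuotientGroup.mk' K)).Normal := Normal.map inferInstance _
    (QuotientGroup.mk'_surjective K)
  have : D.Normal := inferInstance
  have hxD : ∀ y : N, x * y ∈ D := by
    intro y
    obtain ⟨R, hR⟩ := exists_sylow_le_of_not_dvd_index (p := l)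
      (H := (centralizer ({x * y} : Set G)).subgroupOf N) (hF y)
    rw [hD, mem_comap, mem_centralizer_iff]
    rintro _ ⟨u, hu, rfl⟩
    obtain ⟨⟨k, r⟩, e⟩ := (Transfer.isComplement'_pResidual hK R).2 ⟨u, hu⟩
    have e' : ((k : N) : G) * (r : N) = u := congrArg Subtype.val e
    have hk : QuotientGroup.mk' K ((k : N) : G) = 1 :=
      (QuotientGroup.eq_one_iff _).2 (mem_map_of_mem _ k.2)
    have hr := mem_cent_iff.1 (mem_subgroupOf.1 (hR r.2))
    rw [← e', map_mul, hk, one_mul, ← map_mul, ← map_mul, hr.eq]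
  have hx' : x ∈ D := by simpa using hxD 1
  have hND : N ≤ D := fun y hy => by simpa using mul_mem (inv_mem hx') (hxD ⟨y, hy⟩)
  have hDt : D = ⊤ := by
    rcases (Normal.map (inferInstance : D.Normal) _ hs).eq_bot_or_eq_top with e | e
    · exact absurd (mem_bot.1 (e ▸ mem_map_of_mem _ hx')) hx1
    · rw [← comap_map_eq_self (f := QuotientGroup.mk' N) (H := D) (by simpa using hND), e,
        comap_top]
  have hm : m ∈ D := hDt ▸ mem_top m
  rw [hD, mem_comap, mem_centralizer_iff] at hm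
  have h3 := hm _ (mem_map_of_mem _ hn)
  have h4 : ⁅m, n⁆ ∈ K := by
    rw [← QuotientGroup.eq_one_iff]
    change QuotientGroup.mk' K ⁅m, n⁆ = 1
    rw [map_commutatorElement, commutatorElement_eq_one_iff_mul_comm, h3]
  obtain ⟨k, hk, e⟩ := h4
  have h5 := (Transfer.mem_pResidual_iff_coprime hK k).1 hk
  rw [← orderOf_coe, show (k : G) = _ from e] at h5
  exact hl.one_lt.ne' (Nat.eq_one_of_dvd_coprimes h5 hd dvd_rfl)

theorem eq_bot_of_perfect (h : H2 G) (hG : commutator G = ⊤) (N : Subgroup G) [N.Normal]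
    [IsSimpleGroup (G ⧸ N)] (hS : ¬ IsMulCommutative (G ⧸ N)) : N = ⊥ := by
  have hs := QuotientGroup.mk'_surjective N
  have hZ := le_center h N hS
  by_contra hne
  obtain ⟨l, hl, hd⟩ := Nat.exists_prime_and_dvd (fun e => hne (card_eq_one.1 e))
  have : Fact l.Prime := ⟨hl⟩
  obtain ⟨n, hn⟩ := exists_prime_orderOf_dvd_card' l hd
  have hn' : orderOf (n : G) = l := by rw [orderOf_coe, hn]
  obtain ⟨P, hP⟩ := exists_sylow_mem (p := l) (x := (n : G)) ⟨1, by rw [hn', pow_one]⟩
  have hab : IsMulCommutative (P : Subgroup G) := by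
    refine ⟨⟨fun x y => Subtype.ext ?_⟩⟩
    change (x : G) * y = y * x
    by_cases hx : (x : G) ∈ N
    · exact (mem_center_iff.1 (hZ hx) y).symm
    have hx1 : QuotientGroup.mk' N x ≠ 1 := fun e => hx ((QuotientGroup.eq_one_iff _).1 e)
    have hxP : QuotientGroup.mk' N x ∈ ((P.mapSurjective hs : Sylow l _) : Subgroup _) :=
      mem_map_of_mem _ x.2
    have h1 := two_of_elt hS (h.surj hs) hl hx1
      (orderOf_eq_pow_of_mem_isPGroup (P.mapSurjective hs).isPGroup' hxP)
    obtain ⟨P', hP'⟩ := exists_sylow_le_of_not_dvd_index (p := l) (Two.not_dvd h hs hl h1)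
    have h2 : ((P'.mapSurjective hs : Sylow l _) : Subgroup (G ⧸ N)) ≤
        ((P.mapSurjective hs : Sylow l _) : Subgroup (G ⧸ N)) := by
      rw [← cent_eq_sylow hS (h.surj hs) hl _ hx1 hxP]
      exact (map_mono hP').trans (map_cent_le _ _)
    have h3 := (P'.mapSurjective hs).is_maximal' (P.mapSurjective hs).isPGroup' h2
    have h4 : QuotientGroup.mk' N y ∈ ((P'.mapSurjective hs : Sylow l _) : Subgroup _) :=
      h3 ▸ mem_map_of_mem _ y.2
    obtain ⟨y', hy', e⟩ := h4
    have h5 : y'⁻¹ * y ∈ N := QuotientGroup.eq.1 e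
    have h6 := mem_center_iff.1 (hZ h5) x
    have h7 := (mem_cent_iff.1 (hP' hy')).eq
    calc (x : G) * y = x * y' * (y'⁻¹ * y) := by group
      _ = y' * (x * (y'⁻¹ * y)) := by rw [h7]; group
      _ = y * x := by rw [h6]; group
  have := eq_one_of_norm_cent hG P hab hP (by rw [cent_eq_top_iff.2 (hZ n.2)]; exact le_top)
  exact hl.one_lt.ne' (by rw [← hn', this, orderOf_one])

theorem main (h : H2 G) (hG : ¬ Group.IsSolvable G) :
    ∃ S : Subgroup G, S.Normal ∧ center G ⊓ S = ⊥ ∧ center G ⊔ S = ⊤ ∧ IsAL S := by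
  obtain ⟨n, hn⟩ := exists_derivedSeries_perfect (G := G)
  set M := derivedSeries G n with hM
  have : M.Normal := derivedSeries_normal G n
  have hM0 : M ≠ ⊥ := fun e => hG ⟨⟨n, e⟩⟩
  have hp : commutator M = ⊤ := by
    apply map_injective M.subtype_injective
    rw [map_subtype_commutator, hn, ← MonoidHom.range_eq_map, range_subtype]
  have := (nontrivial_iff_ne_bot M).2 hM0
  obtain ⟨N, hN, hNt, -, hmax⟩ := Core.exists_maximal_normal_ge (G := M) (K := ⊥) bot_ne_top
  have := Core.isSimpleGroup_quotient_of_maximal_normal hNt hmax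
  have hS : ¬ IsMulCommutative (M ⧸ N) := fun hc => hNt (by
    rw [eq_top_iff, ← hp]
    exact (Normal.quotient_commutative_iff_commutator_le).1 hc)
  have hN0 := eq_bot_of_perfect (h.normal M) hp N hS
  subst hN0
  have : IsSimpleGroup M := QuotientGroup.quotientBot.symm.isSimpleGroup
  have hMc : ¬ IsMulCommutative M := fun hc => hS ⟨⟨fun a b =>
    QuotientGroup.quotientBot.injective (by rw [map_mul, map_mul, hc.is_comm.comm])⟩⟩
  have hinf : ∀ x ∈ M, x ∈ centralizer (M : Set G) → x = 1 := fun x hx hc => by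
    have : (⟨x, hx⟩ : M) ∈ center M :=
      mem_center_iff.2 fun y => Subtype.ext (mem_centralizer_iff.1 hc y y.2)
    rw [center_eq_bot' hMc] at this
    exact congrArg Subtype.val (mem_bot.1 this)
  have htop := outer h M hMc
  have hC : centralizer (M : Set G) ≤ center G := by
    intro c hc
    rw [← index_cent_eq_one_iff]
    by_contra hne
    obtain ⟨l, hl, hd⟩ := Nat.exists_prime_and_dvd hne
    obtain ⟨x, -, a, b, ha, hb, ab, al, bl, da, db⟩ := exists_two hMc (h.normal M) hl
    have key : centralizer ({x * c} : Set G) ≤ centralizer {(x : G)} ⊓ centralizer {c} := by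
      intro g hg
      have h1 := (mem_cent_iff.1 hg).eq
      have h2 : (x : G)⁻¹ * (g * x * g⁻¹) = c * (g * c⁻¹ * g⁻¹) := by
        calc (x : G)⁻¹ * (g * x * g⁻¹) = (x : G)⁻¹ * (g * (x * c)) * c⁻¹ * g⁻¹ := by group
          _ = (x : G)⁻¹ * (x * c * g) * c⁻¹ * g⁻¹ := by rw [h1]
          _ = _ := by group
      have h3 : (x : G)⁻¹ * (g * x * g⁻¹) = 1 := hinf _
        (mul_mem (inv_mem x.2) (Normal.conj_mem inferInstance _ x.2 g))
        (h2 ▸ mul_mem hc (Normal.conj_mem inferInstance _ (inv_mem hc) g))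
      have h4 := h2.symm.trans h3
      refine ⟨mem_cent_iff.2 ?_, mem_cent_iff.2 ?_⟩
      · rw [inv_mul_eq_one] at h3
        exact (eq_mul_inv_iff_mul_eq.1 h3)
      · have : c * g = g * c := by
          calc c * g = c * (g * c⁻¹ * g⁻¹) * (g * c) := by group
            _ = g * c := by rw [h4, one_mul]
        exact this
    have d1 := (index_cent_normal_dvd M x).trans (index_dvd_of_le (key.trans inf_le_left))
    exact h.no_three _ ha hb hl ab al bl (da.trans d1) (db.trans d1)
      (hd.trans (index_dvd_of_le (key.trans inf_le_right)))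
  refine ⟨M, inferInstance, eq_bot_iff.2 fun x hx => mem_bot.2 (hinf x hx.2 (center_le_centralizer _ hx.1)),
    ?_, (isAL hMc (h.normal M)).1⟩
  rw [eq_top_iff, ← htop, sup_comm]
  exact sup_le_sup_right hC _

end CfsgLib.Cls2
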